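import Cfsg.Agent.H380.Cod.TorB
import Cfsg.Agent.H380.Cod.Mode
import Cfsg.Agent.H417.TorFalse
import Cfsg.Agent.H686.CharKit

/-!
# Parity of the values on a cyclic torus (helper380, S3539)

`Tor φ`, `φ : A × (B × Z) →* G`, `|Z| = 2` mapped into the centre.  `kk χ θ` is the difference of the multiplicities of
`1` and `θ` in the restriction of `χ` to `A` if `χ` is faithful on `Z`, and `0` otherwise.

* `column` : `∑ χ, kk χ θ * kk χ θ' = |N : T| |B|` for `θ, θ' ≠ 1` in different orbits;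
* `false_of` : if all faithful characters have even `kk` where `kk` is constant, `|N : T| = 2` mod 4 and `|B|` is odd: contradiction.
-/

set_option autoImplicit false
set_option linter.unusedSectionVars false

namespace Cfsg.Agent.H380.Cod.Par

open Cfsg Finset Cfsg.Agent.Characters.Core Cfsg.Agent.Characters.Linear Cfsg.Agent.H417.TorDual
  Cfsg.Agent.H417.TorRow Cfsg.Agent.H417.TorCol Cfsg.Agent.H417.TorMain Cfsg.Agent.H417.TorFalse
  Cfsg.Agent.H686.CharKit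
open scoped ComplexConjugate Classical BigOperators

universe u v w

/-- the group of order two -/
abbrev Z2 : Type := Multiplicative (ZMod 2)

/-- the generator -/
def z0 : Z2 := Multiplicative.ofAdd 1

theorem z2_cases (z : Z2) : z = 1 ∨ z = z0 := by
  revert z; decide

theorem z0_ne : z0 ≠ 1 := by decide

theorem z0_sq : z0 * z0 = 1 := by decide

theorem sum_z2 {M : Type*} [AddCommMonoid M] (f : Z2 → M) : ∑ z, f z = f 1 + f z0 := by
  rw [← Finset.sum_pair (f := f) z0_ne.symm]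
  refine Finset.sum_congr ?_ fun _ _ => rfl
  decide

variable {G : Type u} [Group G] {A : Type v} {B : Type w} [CommGroup A] [CommGroup B]

/-- the value of a character of `B × Z` at the generator of `Z` -/
noncomputable def sgn (μ : B × Z2 →* ℂˣ) : ℤ := if μ (1, z0) = 1 then 1 else -1

theorem sgn_spec (μ : B × Z2 →* ℂˣ) : ((μ (1, z0) : ℂˣ) : ℂ) = (sgn μ : ℂ) := by
  have h1 : (μ (1, z0)) * (μ (1, z0)) = 1 := by
    rw [← map_mul, Prod.mk_mul_mk, one_mul, z0_sq]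
    exact map_one μ
  have h2 : (((μ (1, z0) : ℂˣ) : ℂ) - 1) * (((μ (1, z0) : ℂˣ) : ℂ) + 1) = 0 := by
    have h3 : ((μ (1, z0) : ℂˣ) : ℂ) * ((μ (1, z0) : ℂˣ) : ℂ) = 1 := by
      rw [← Units.val_mul, h1, Units.val_one]
    linear_combination h3
  unfold sgn
  split_ifs with h
  · rw [h]; simp
  · rcases mul_eq_zero.1 h2 with h3 | h3
    · exact absurd (Units.ext (by rw [Units.val_one]; exact sub_eq_zero.1 h3)) h
    · rw [eq_neg_of_add_eq_zero_left h3]; simp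

theorem sgn_cases (μ : B × Z2 →* ℂˣ) : sgn μ = 1 ∨ sgn μ = -1 := by
  unfold sgn; split_ifs <;> simp

variable {φ : A × (B × Z2) →* G} [Fintype G] [Fintype A] [Fintype B]

/-- the central element acts as a sign -/
theorem sign_of (hZ : ∀ g, g * φ (1, (1, z0)) = φ (1, (1, z0)) * g) {χ : G → ℂ} (hχ : IsIrrCharacter G χ) :
    (∀ g, χ (g * φ (1, (1, z0))) = χ g) ∨ (∀ g, χ (g * φ (1, (1, z0))) = -χ g) := by
  obtain ⟨c, hc, -⟩ := Cfsg.Agent.CharactersDeep.Extraspecial.exists_central_hom hχ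
  let z : Subgroup.center G := ⟨φ (1, (1, z0)), Subgroup.mem_center_iff.2 hZ⟩
  have hz2 : z * z = 1 := by
    apply Subtype.ext
    show φ (1, (1, z0)) * φ (1, (1, z0)) = 1
    rw [← map_mul, Prod.mk_mul_mk, Prod.mk_mul_mk, one_mul, one_mul, z0_sq]
    exact map_one φ
  have h1 : ((c z : ℂˣ) : ℂ) * ((c z : ℂˣ) : ℂ) = 1 := by
    rw [← Units.val_mul, ← map_mul, hz2, map_one, Units.val_one]
  have h2 : (((c z : ℂˣ) : ℂ) - 1) * (((c z : ℂˣ) : ℂ) + 1) = 0 := by linear_combination h1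
  rcases mul_eq_zero.1 h2 with h3 | h3
  · left
    intro g
    have := hc g z
    rw [sub_eq_zero.1 h3, mul_one] at this
    exact this
  · right
    intro g
    have := hc g z
    rw [eq_neg_of_add_eq_zero_left h3] at this
    rw [show χ (g * φ (1, (1, z0))) = _ from this]
    ring

/-- the multiplicities of the wrong sign vanish -/
theorem mul_zero_of {χ : G → ℂ} (hχ : IsCharacter G χ) {s : ℤ} (hs : ∀ g, χ (g * φ (1, (1, z0))) = (s : ℂ) * χ g)
    (θ : A →* ℂˣ) {μ : B × Z2 →* ℂˣ} (hμ : sgn μ * s = -1) : mul φ χ θ μ = 0 := by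
  have h0 : ((mul φ χ θ μ : ℤ) : ℂ) = 0 := by
    rw [← mul_spec hχ, hat_def]
    set S := ∑ y, χ (φ y) * (((θ.coprod μ) y⁻¹ : ℂˣ) : ℂ) with hS
    have h1 : S = -S := by
      have h2 : S = ∑ y : A × (B × Z2), χ (φ (y * (1, (1, z0)))) * (((θ.coprod μ) (y * (1, (1, z0)))⁻¹ : ℂˣ) : ℂ) := by
        rw [hS]
        exact (Equiv.sum_comp (Equiv.mulRight ((1, (1, z0)) : A × (B × Z2)))
          (fun y => χ (φ y) * (((θ.coprod μ) y⁻¹ : ℂˣ) : ℂ))).symm
      conv_lhs => rw [h2]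
      rw [hS, ← Finset.sum_neg_distrib]
      refine Finset.sum_congr rfl fun y _ => ?_
      rw [map_mul, hs, mul_inv, map_mul, Units.val_mul]
      have h3 : (((θ.coprod μ) ((1, (1, z0)) : A × (B × Z2))⁻¹ : ℂˣ) : ℂ) = (sgn μ : ℂ) := by
        rw [← sgn_spec]
        have h4 : ((1, (1, z0)) : A × (B × Z2))⁻¹ = (1, (1, z0)) := by
          rw [inv_eq_iff_mul_eq_one, Prod.mk_mul_mk, Prod.mk_mul_mk, one_mul, one_mul, z0_sq]
          rfl
        rw [h4, MonoidHom.coprod_apply, map_one, one_mul]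
      rw [h3]
      have h5 : ((sgn μ : ℤ) : ℂ) * (s : ℂ) = -1 := by exact_mod_cast hμ
      linear_combination (χ (φ y) * (((θ.coprod μ) y⁻¹ : ℂˣ) : ℂ)) * h5
    have h6 : S = 0 := by
      have : (2 : ℂ) * S = 0 := by linear_combination h1
      rcases mul_eq_zero.1 this with h | h
      · norm_num at h
      · exact h
    rw [h6, mul_zero]
  exact_mod_cast h0

variable [Fintype (A →* ℂˣ)] [Fintype (B × Z2 →* ℂˣ)]

/-- the difference of multiplicities over the faithful characters -/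
noncomputable def kk (φ : A × (B × Z2) →* G) (χ : G → ℂ) (θ : A →* ℂˣ) : ℤ :=
  ∑ μ ∈ univ.filter (fun μ : B × Z2 →* ℂˣ => sgn μ = -1), (mul φ χ 1 μ - mul φ χ θ μ)

theorem kk_zero {χ : G → ℂ} (hχ : IsCharacter G χ) (hs : ∀ g, χ (g * φ (1, (1, z0))) = χ g) (θ : A →* ℂˣ) :
    kk φ χ θ = 0 := by
  refine Finset.sum_eq_zero fun μ hμ => ?_
  have h1 : sgn μ * 1 = -1 := by rw [(mem_filter.1 hμ).2]; norm_num
  have hs' : ∀ g, χ (g * φ (1, (1, z0))) = ((1 : ℤ) : ℂ) * χ g := fun g => by rw [hs]; simp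
  rw [mul_zero_of hχ hs' 1 h1, mul_zero_of hχ hs' θ h1, sub_zero]

theorem kk_eq {χ : G → ℂ} (hχ : IsCharacter G χ) (hs : ∀ g, χ (g * φ (1, (1, z0))) = -χ g) (θ : A →* ℂˣ) :
    kk φ χ θ = ∑ μ, (mul φ χ 1 μ - mul φ χ θ μ) := by
  refine Finset.sum_subset (Finset.subset_univ _) fun μ _ hμ => ?_
  have h0 : sgn μ = 1 := by
    rcases sgn_cases μ with h | h
    · exact h
    · exact absurd (mem_filter.2 ⟨mem_univ μ, h⟩) hμ
  have h1 : sgn μ * (-1) = -1 := by rw [h0]; norm_num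
  have hs' : ∀ g, χ (g * φ (1, (1, z0))) = ((-1 : ℤ) : ℂ) * χ g := fun g => by rw [hs]; simp
  rw [mul_zero_of hχ hs' 1 h1, mul_zero_of hχ hs' θ h1, sub_zero]

/-! ### the column relation -/

/-- the function on `B × Z` -/
noncomputable def ff (w : B × Z2) : ℂ := if w.1 = 1 then (if w.2 = 1 then 1 else -1) else 0

/-- the test function -/
noncomputable def FF (θ : A →* ℂˣ) (y : A × (B × Z2)) : ℂ := (((θ y.1 : ℂˣ) : ℂ) - 1) * ff y.2

theorem ff_conj (w : B × Z2) : conj (ff w) = ff w := by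
  unfold ff
  split_ifs <;> simp

theorem sum_ff (g : B × Z2 → ℂ) : ∑ w, g w * ff w = g (1, 1) - g (1, z0) := by
  rw [Fintype.sum_prod_type, Finset.sum_eq_single (1 : B)]
  · rw [sum_z2]
    simp only [ff, if_true, if_neg z0_ne]
    ring
  · intro b _ hb
    refine Finset.sum_eq_zero fun z _ => ?_
    simp only [ff, if_neg hb, mul_zero]
  · intro h; exact absurd (mem_univ _) h

theorem sum_FF {χ : G → ℂ} (hχ : IsCharacter G χ) {θ : A →* ℂˣ} (hθ : θ ≠ 1) :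
    ∑ y, χ (φ y) * conj (FF θ y) = -((2 * Nat.card A : ℕ) : ℂ) * (kk φ χ θ : ℂ) := by
  have h1 : ∀ y : A × (B × Z2), χ (φ y) * conj (FF θ y) =
      ∑ μ : B × Z2 →* ℂˣ, ∑ η : A →* ℂˣ, (mul φ χ η μ : ℂ) *
        ((((η y.1 : ℂˣ) : ℂ) * conj ((θ y.1 : ℂˣ) : ℂ) - ((η y.1 : ℂˣ) : ℂ)) * (((μ y.2 : ℂˣ) : ℂ) * ff y.2)) := by
    intro y
    rw [apply_eq hχ, Finset.sum_mul]
    refine Finset.sum_congr rfl fun μ _ => ?_
    rw [Finset.sum_mul]
    refine Finset.sum_congr rfl fun η _ => ?_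
    rw [FF, map_mul, map_sub, map_one, ff_conj]
    ring
  rw [Finset.sum_congr rfl fun y _ => h1 y, Finset.sum_comm]
  have h2 : ∀ μ : B × Z2 →* ℂˣ, ∑ y : A × (B × Z2), ∑ η : A →* ℂˣ, (mul φ χ η μ : ℂ) *
        ((((η y.1 : ℂˣ) : ℂ) * conj ((θ y.1 : ℂˣ) : ℂ) - ((η y.1 : ℂˣ) : ℂ)) * (((μ y.2 : ℂˣ) : ℂ) * ff y.2)) =
      (1 - (sgn μ : ℂ)) * (Nat.card A * ((mul φ χ θ μ : ℂ) - mul φ χ 1 μ)) := by
    intro μ
    rw [Finset.sum_comm]
    have h3 : ∀ η : A →* ℂˣ, ∑ y : A × (B × Z2), (mul φ χ η μ : ℂ) *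
        ((((η y.1 : ℂˣ) : ℂ) * conj ((θ y.1 : ℂˣ) : ℂ) - ((η y.1 : ℂˣ) : ℂ)) * (((μ y.2 : ℂˣ) : ℂ) * ff y.2)) =
        (mul φ χ η μ : ℂ) * (((if η = θ then (Nat.card A : ℂ) else 0) - (if η = 1 then (Nat.card A : ℂ) else 0)) *
          (1 - (sgn μ : ℂ))) := by
      intro η
      rw [← Finset.mul_sum, Fintype.sum_prod_type]
      congr 1
      have h4 : ∀ a : A, ∑ w : B × Z2, (((η a : ℂˣ) : ℂ) * conj ((θ a : ℂˣ) : ℂ) - ((η a : ℂˣ) : ℂ)) *
          (((μ w : ℂˣ) : ℂ) * ff w) =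
          (((η a : ℂˣ) : ℂ) * conj ((θ a : ℂˣ) : ℂ) - ((η a : ℂˣ) : ℂ)) * (1 - (sgn μ : ℂ)) := by
        intro a
        rw [← Finset.mul_sum, sum_ff, sgn_spec]
        congr 2
        rw [show ((1 : B), (1 : Z2)) = 1 from rfl, map_one, Units.val_one]
      rw [Finset.sum_congr rfl fun a _ => h4 a, ← Finset.sum_mul, Finset.sum_sub_distrib, sum_mul_conj,
        Cfsg.Agent.H417.TorDual.sum_apply]
      congr!
    rw [Finset.sum_congr rfl fun η _ => h3 η]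
    have h5 : ∀ η : A →* ℂˣ, (mul φ χ η μ : ℂ) * (((if η = θ then (Nat.card A : ℂ) else 0) -
        (if η = 1 then (Nat.card A : ℂ) else 0)) * (1 - (sgn μ : ℂ))) =
        (if η = θ then (mul φ χ η μ : ℂ) * Nat.card A * (1 - (sgn μ : ℂ)) else 0) -
        (if η = 1 then (mul φ χ η μ : ℂ) * Nat.card A * (1 - (sgn μ : ℂ)) else 0) := by
      intro η
      by_cases h6 : η = θ
      · have h7 : η ≠ 1 := by rw [h6]; exact hθ
        rw [if_pos h6, if_neg h7, if_pos h6, if_neg h7]; ring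
      · rw [if_neg h6, if_neg h6]
        by_cases h7 : η = 1
        · rw [if_pos h7, if_pos h7]; ring
        · rw [if_neg h7, if_neg h7]; ring
    rw [Finset.sum_congr rfl fun η _ => h5 η, Finset.sum_sub_distrib, Finset.sum_ite_eq' univ θ,
      Finset.sum_ite_eq' univ 1, if_pos (mem_univ _), if_pos (mem_univ _)]
    ring
  rw [Finset.sum_congr rfl fun μ _ => h2 μ, kk, Int.cast_sum, Finset.mul_sum, Finset.sum_filter]
  refine Finset.sum_congr rfl fun μ _ => ?_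
  rcases sgn_cases μ with h | h
  · rw [if_neg (by rw [h]; norm_num), h]; simp
  · rw [if_pos h, h]
    push_cast
    ring

theorem kap_z (hT : Tor φ) (hZ : ∀ z g, g * φ (1, (1, z)) = φ (1, (1, z)) * g) {x : G} (hx : x ∈ NT φ) (z : Z2) :
    ((1, z) : B × Z2) ^ kap φ x = (1, z) := by
  have h1 := hT.kap_spec hx (1, (1, z))
  rw [hZ z x, mul_inv_cancel_right] at h1
  exact (congrArg Prod.snd (hT.inj h1)).symm

theorem ff_pow (hT : Tor φ) (hZ : ∀ z g, g * φ (1, (1, z)) = φ (1, (1, z)) * g) {x : G} (hx : x ∈ NT φ) (w : B × Z2) :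
    ff (w ^ kap φ x) = ff w := by
  obtain ⟨b, z⟩ := w
  have hz : z ^ kap φ x = z := congrArg Prod.snd (kap_z hT hZ hx z)
  have h1 : ((b, z) : B × Z2) ^ kap φ x = (b ^ kap φ x, z) := Prod.ext rfl hz
  rw [h1]
  have hb : b ^ kap φ x = 1 ↔ b = 1 := by
    constructor
    · intro h
      have h2 : ((1, (b, 1)) : A × (B × Z2)) ^ kap φ x = (1, (1, 1)) ^ kap φ x := by
        refine Prod.ext ?_ (Prod.ext ?_ ?_)
        · rfl
        · show b ^ kap φ x = 1 ^ kap φ x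
          rw [h, one_pow]
        · rfl
      have h3 := (hT.bij hx).1 h2
      exact congrArg (fun y => y.2.1) h3
    · rintro rfl; exact one_pow _
  unfold ff
  by_cases h2 : b = 1
  · rw [if_pos (hb.2 h2), if_pos h2]
  · rw [if_neg (fun h => h2 (hb.1 h)), if_neg h2]

/-- **The column relation.** -/
theorem column (hT : Tor φ) (hZ : ∀ z g, g * φ (1, (1, z)) = φ (1, (1, z)) * g) [Fintype (IrrCharacter G)] {e : ℕ}
    (he : Nat.card (NT φ) = e * (Nat.card A * Nat.card (B × Z2))) {θ θ' : A →* ℂˣ} (hθ : θ ≠ 1) (hθ' : θ' ≠ 1)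
    (h : θ' ∉ orb φ θ) : ∑ χ : IrrCharacter G, kk φ χ θ * kk φ χ θ' = e * Nat.card B := by
  have h1 := hT.col_sum (FF θ) (FF θ') (fun y hy => by rw [FF, hy]; simp) (fun y hy => by rw [FF, hy]; simp)
  have h2 : ∀ χ : IrrCharacter G, (∑ y, (χ : G → ℂ) (φ y) * conj (FF θ y)) *
      conj (∑ y, (χ : G → ℂ) (φ y) * conj (FF θ' y)) =
      ((2 * Nat.card A : ℕ) : ℂ) ^ 2 * ((kk φ χ θ * kk φ χ θ' : ℤ) : ℂ) := by
    intro χ
    have hχ := isIrr_isCharacter χ.2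
    rw [sum_FF hχ hθ, sum_FF hχ hθ', map_mul, map_neg]
    have h3 : conj ((kk φ χ θ' : ℤ) : ℂ) = ((kk φ χ θ' : ℤ) : ℂ) := map_intCast _ _
    have h4 : conj ((2 * Nat.card A : ℕ) : ℂ) = ((2 * Nat.card A : ℕ) : ℂ) := map_natCast _ _
    rw [h3, h4]
    push_cast
    ring
  rw [Finset.sum_congr rfl fun χ _ => h2 χ, ← Finset.mul_sum] at h1
  have h3 : ∀ x ∈ univ.filter (fun x => x ∈ NT φ), ∑ y : A × (B × Z2), FF θ' y * conj (FF θ (y ^ kap φ x)) =
      ((2 * Nat.card A : ℕ) : ℂ) := by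
    intro x hx
    have hx' : x ∈ NT φ := (Finset.mem_filter.1 hx).2
    have hne : θ ^ kap φ x ≠ θ' := fun h4 => h (mem_orb.2 ⟨x, hx', h4⟩)
    have hne1 : θ ^ kap φ x ≠ 1 := theta_pow_ne hT hx' hθ
    have h4 : ∀ y : A × (B × Z2), FF θ' y * conj (FF θ (y ^ kap φ x)) =
        (((θ' y.1 : ℂˣ) : ℂ) * conj (((θ ^ kap φ x) y.1 : ℂˣ) : ℂ) - ((θ' y.1 : ℂˣ) : ℂ) -
          conj (((θ ^ kap φ x) y.1 : ℂˣ) : ℂ) + 1) * (ff y.2 * ff y.2) := by
      intro y
      rw [FF, FF, map_mul, ff_conj, Prod.pow_snd, Prod.pow_fst, ff_pow hT hZ hx', map_sub, map_one, map_pow,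
        MonoidHom.pow_apply]
      ring
    rw [Finset.sum_congr rfl fun y _ => h4 y, Fintype.sum_prod_type]
    have h5 : ∀ a : A, ∑ w : B × Z2, (((θ' a : ℂˣ) : ℂ) * conj (((θ ^ kap φ x) a : ℂˣ) : ℂ) - ((θ' a : ℂˣ) : ℂ) -
          conj (((θ ^ kap φ x) a : ℂˣ) : ℂ) + 1) * (ff w * ff w) =
        2 * (((θ' a : ℂˣ) : ℂ) * conj (((θ ^ kap φ x) a : ℂˣ) : ℂ) - ((θ' a : ℂˣ) : ℂ) -
          conj (((θ ^ kap φ x) a : ℂˣ) : ℂ) + 1) := by
      intro a
      rw [← Finset.mul_sum, sum_ff]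
      have h6 : ff ((1, 1) : B × Z2) = 1 := by simp [ff]
      have h7 : ff ((1, z0) : B × Z2) = -1 := by simp [ff, z0_ne]
      rw [h6, h7]
      ring
    rw [Finset.sum_congr rfl fun a _ => h5 a, ← Finset.mul_sum, Finset.sum_add_distrib, Finset.sum_sub_distrib,
      Finset.sum_sub_distrib, sum_mul_conj, if_neg (Ne.symm hne), Cfsg.Agent.H417.TorDual.sum_apply, if_neg hθ', ← map_sum,
      Cfsg.Agent.H417.TorDual.sum_apply, if_neg hne1, Finset.sum_const, Finset.card_univ, nsmul_eq_mul, mul_one,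
      ← Nat.card_eq_fintype_card]
    push_cast
    simp
  rw [Finset.sum_congr rfl h3, Finset.sum_const, nsmul_eq_mul] at h1
  have h4 : (univ.filter fun x : G => x ∈ NT φ).card = Nat.card (NT φ) := card_nset
  rw [h4, he] at h1
  have h0 : ((2 * Nat.card A : ℕ) : ℂ) ≠ 0 := by
    have : 0 < 2 * Nat.card A := Nat.mul_pos (by norm_num) Nat.card_pos
    exact Nat.cast_ne_zero.2 this.ne'
  have h5 : ((2 * Nat.card A : ℕ) : ℂ) * ∑ χ : IrrCharacter G, ((kk φ χ θ * kk φ χ θ' : ℤ) : ℂ) =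
      ((e * (Nat.card A * Nat.card (B × Z2)) : ℕ) : ℂ) := by
    refine mul_left_cancel₀ h0 ?_
    rw [← mul_assoc, ← sq, h1]
    ring
  have hZ2 : Nat.card Z2 = 2 := TorB.card_mzmod 2
  rw [Nat.card_prod, hZ2] at h5
  have h6 : ((2 * Nat.card A : ℕ) : ℂ) * ∑ χ : IrrCharacter G, ((kk φ χ θ * kk φ χ θ' : ℤ) : ℂ) =
      ((2 * Nat.card A : ℕ) : ℂ) * ((e * Nat.card B : ℕ) : ℂ) := by
    rw [h5]
    push_cast
    ring
  have h7 := mul_left_cancel₀ h0 h6
  exact_mod_cast h7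

/-! ### the dichotomy -/

theorem dich (hT : Tor φ) {e : ℕ} (he : Nat.card (NT φ) = e * (Nat.card A * Nat.card (B × Z2))) (he1 : 1 ≤ e)
    (hn : 4 * e * (e + 1) < Nat.card A) (χ : IrrCharacter G) :
    ∃ K : ℤ, |K| ≤ e ∧ (Nat.card A : ℤ) ∣ charDegree (χ : G → ℂ) - K ∧
      ((∀ θ, θ ≠ 1 → ∑ μ, (mul φ χ 1 μ - mul φ χ θ μ) = K) ∨
        ∀ θ θ', θ ≠ 1 → θ' ≠ 1 → ∑ μ, (mul φ χ 1 μ - mul φ χ θ μ) ≠ 0 → ∑ μ, (mul φ χ 1 μ - mul φ χ θ' μ) ≠ 0 →
          θ' ∈ orb φ θ) := by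
  have hχ := isIrr_isCharacter χ.2
  have hcard : Fintype.card (A →* ℂˣ) = Nat.card A := by
    rw [← Nat.card_eq_fintype_card]; exact CommGroup.card_monoidHom_of_hasEnoughRootsOfUnity A ℂ
  have hrow := hT.row χ.2 he
  obtain ⟨K, hK, hdeg, hcase⟩ := Mode.dich (X := A →* ℂˣ) (J := B × Z2 →* ℂˣ) (S := ↥(NT φ))
    (fun x θ => θ ^ kap φ x) (fun x μ => μ ^ kap φ x) (x0 := 1)
    (fun x => (Finite.injective_iff_surjective.1 fun θ θ' h => theta_inj hT x.2 h))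
    (fun x θ h1 => theta_pow_ne hT x.2 h1) (w := e) (fun θ h1 => by
      have h2 := le_orb_sum hT he h1 (fun _ => 1) (fun _ => by norm_num) (fun _ _ => rfl)
      rw [Finset.sum_const, nsmul_eq_mul, mul_one, mul_one] at h2
      have h3 : (univ.image fun s : ↥(NT φ) => θ ^ kap φ s) = orb φ θ := by
        ext η
        rw [mem_image, mem_orb]
        constructor
        · rintro ⟨s, -, hs⟩; exact ⟨s, s.2, hs⟩
        · rintro ⟨x, hx, hs⟩; exact ⟨⟨x, hx⟩, mem_univ _, hs⟩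
      rw [h3]
      exact_mod_cast h2) he1 (fun θ μ => mul φ χ θ μ) (fun x θ μ => hT.mul_pow hχ x.2 θ μ) hcard hn
    (by
      rw [Finset.sum_sub_distrib, ← Finset.mul_sum]
      exact hrow)
  refine ⟨K, hK, ?_, ?_⟩
  · have h1 := degree_eq (φ := φ) hχ
    rw [← charDegree_irr χ] at h1
    have h2 : (charDegree (χ : G → ℂ) : ℤ) = ∑ μ : B × Z2 →* ℂˣ, ∑ θ : A →* ℂˣ, mul φ χ θ μ := by exact_mod_cast h1
    rw [h2]
    exact hdeg
  · rcases hcase with h | ⟨-, h⟩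
    · exact Or.inl h
    · right
      intro θ θ' h1 h2 h3 h4
      obtain ⟨η, x, x', hx, hx'⟩ := h θ θ' h1 h2 h3 h4
      have hx1 : η ^ kap φ x = θ := hx
      have hx2 : η ^ kap φ x' = θ' := hx'
      refine mem_orb.2 ⟨x' * (x : G)⁻¹, mul_mem x'.2 (inv_mem x.2), ?_⟩
      rw [kap_mul hT x'.2 (inv_mem x.2), ← hx1, ← kap_mul hT (inv_mem x.2) x.2, inv_mul_cancel,
        kap_range hT (one_mem _), hx2]

/-- **The contradiction.** -/
theorem false_of (hT : Tor φ) (hZ : ∀ z g, g * φ (1, (1, z)) = φ (1, (1, z)) * g) {e : ℕ}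
    (he : Nat.card (NT φ) = e * (Nat.card A * Nat.card (B × Z2))) (he4 : e % 4 = 2)
    (hn : 4 * e * (e + 1) < Nat.card A) (hB : Odd (Nat.card B))
    (h : ∀ χ : IrrCharacter G, (∀ g, (χ : G → ℂ) (g * φ (1, (1, z0))) = -(χ : G → ℂ) g) →
      ∃ ψ : IrrCharacter G, charDegree (χ : G → ℂ) = 2 * charDegree (ψ : G → ℂ)) : False := by
  have := Cfsg.Agent.Characters.Core.finite_irr (G := G)
  have := Fintype.ofFinite (IrrCharacter G)
  have he1 : 1 ≤ e := by omega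
  obtain ⟨θ, θ', hθ, hθ', hor⟩ := exists_two hT he (by nlinarith)
  have hcol := column hT hZ he hθ hθ' hor
  have h4 : ∀ χ : IrrCharacter G, (4 : ℤ) ∣ kk φ χ θ * kk φ χ θ' := by
    intro χ
    have hχ := isIrr_isCharacter χ.2
    rcases sign_of (fun g => hZ z0 g) χ.2 with hs | hs
    · rw [kk_zero hχ hs, zero_mul]
      exact dvd_zero _
    · obtain ⟨K, hK, hd, hcase⟩ := dich hT he he1 hn χ
      rw [kk_eq hχ hs, kk_eq hχ hs]
      rcases hcase with h1 | h1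
      · rw [h1 θ hθ, h1 θ' hθ']
        -- `K` is even
        obtain ⟨ψ, hψ⟩ := h χ hs
        obtain ⟨K', hK', hd', -⟩ := dich hT he he1 hn ψ
        have h2 : (Nat.card A : ℤ) ∣ K - 2 * K' := by
          have h3 : K - 2 * K' = 2 * ((charDegree (ψ : G → ℂ) : ℤ) - K') - ((charDegree (χ : G → ℂ) : ℤ) - K) := by
            rw [hψ]; push_cast; ring
          rw [h3]
          exact dvd_sub (hd'.mul_left 2) hd
        have h3 : |K - 2 * K'| < Nat.card A := by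
          have h5 : |K - 2 * K'| ≤ |K| + 2 * |K'| := by
            calc |K - 2 * K'| ≤ |K| + |2 * K'| := abs_sub _ _
              _ = |K| + 2 * |K'| := by rw [abs_mul]; norm_num
          have h6 : (4 * e * (e + 1) : ℤ) < Nat.card A := by exact_mod_cast hn
          have h7 : (1 : ℤ) ≤ e := by exact_mod_cast he1
          nlinarith
        have h5 : K - 2 * K' = 0 := Int.eq_zero_of_abs_lt_dvd h2 h3
        refine ⟨K' * K', ?_⟩
        rw [sub_eq_zero.1 h5]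
        ring
      · by_cases h2 : ∑ μ, (mul φ χ 1 μ - mul φ χ θ μ) = 0
        · rw [h2, zero_mul]; exact dvd_zero _
        · by_cases h3 : ∑ μ, (mul φ χ 1 μ - mul φ χ θ' μ) = 0
          · rw [h3, mul_zero]; exact dvd_zero _
          · exact absurd (h1 θ θ' hθ hθ' h2 h3) hor
  have h5 := Finset.dvd_sum (s := univ) fun χ (_ : χ ∈ (univ : Finset (IrrCharacter G))) => h4 χ
  rw [hcol] at h5
  obtain ⟨k, hk⟩ := hB
  rw [hk] at h5
  obtain ⟨c, hc⟩ := h5
  obtain ⟨m, hm⟩ : ∃ m, e = 4 * m + 2 := ⟨e / 4, by omega⟩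
  rw [hm] at hc
  push_cast at hc
  have h6 : (2 : ℤ) * (2 * ((4 * m + 2) * k) + (4 * m + 2) - 4 * c) = 0 := by linear_combination 2 * hc
  have h7 : (4 * (m * 2 * k + m + k - c) : ℤ) = -2 := by linear_combination hc
  omega

end Cfsg.Agent.H380.Cod.Par
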